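import Mathlib
import Cfsg.Agent.H95.OutCrit

/-!
A criterion for exactly two classes of automorphisms from exhausted solution sets.
-/

set_option autoImplicit false

namespace H94.Out

variable {G : Type*} [Group G] [Finite G]

theorem out_card_eq_two {p : ℕ} [hp : Fact p.Prime] (x y e e' : G) (r k0 : ℕ)
    (hsq : ¬ p ^ 2 ∣ Nat.card G) (hx : orderOf x = p) (hyx : y * x * y⁻¹ = x ^ r)
    (hcls : ∀ k < p, k ≠ 0 → ∃ c, r ^ c * k % p = 1 ∨ r ^ c * k % p = k0)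
    (hN : ∀ g : G, g * x * g⁻¹ = x ^ r → ∃ a, x ^ a * g * (x ^ a)⁻¹ = y)
    (hgen : Subgroup.closure ({x, y, e} : Set G) = ⊤)
    (htest : ∀ (ψ : MulAut G) (k : ℕ), (k = 1 ∨ k = k0) → ψ x = x ^ k → ψ y = y →
      (k = 1 ∧ ψ e = e) ∨ (k = k0 ∧ ψ e = e'))
    (φ₀ : MulAut G) (h0x : φ₀ x = x ^ k0) (h0y : φ₀ y = y) (h0e : φ₀ e = e')
    (hout : φ₀ ∉ Cfsg.Inn G) :
    Nat.card (Cfsg.Out G) = 2 := by
  have hext : ∀ ψ ψ' : MulAut G, ψ x = ψ' x → ψ y = ψ' y → ψ e = ψ' e → ψ = ψ' := by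
    intro ψ ψ' e1 e2 e3
    refine MulEquiv.ext fun z => ?_
    have hz : z ∈ Subgroup.closure ({x, y, e} : Set G) := hgen ▸ Subgroup.mem_top z
    refine MonoidHom.eqOn_closure (f := ψ.toMonoidHom) (g := ψ'.toMonoidHom) ?_ hz
    intro w hw
    rcases hw with rfl | rfl | rfl
    · exact e1
    · exact e2
    · exact e3
  have key : ∀ φ : MulAut G, φ ∈ Cfsg.Inn G ∨ φ₀⁻¹ * φ ∈ Cfsg.Inn G := by
    intro φ
    obtain ⟨g, hg⟩ := H95.exists_conj_zpowers hsq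
      (by rw [MulEquiv.orderOf_eq, hx] : orderOf (φ x) = p) hx
    obtain ⟨k, hk⟩ := mem_powers_iff_mem_zpowers.mpr hg
    set φ₁ : MulAut G := MulAut.conj g * φ with hφ₁
    have h1x : φ₁ x = x ^ k := hk.symm
    have hk0 : (k : ZMod p) ≠ 0 := fun h0 => by
      have h' : φ₁ x = 1 := by
        rw [h1x, ← pow_zero x]; exact H95.pow_eq_of_zmod hx (by rw [h0, Nat.cast_zero])
      have hx1 : x = 1 := φ₁.injective (h'.trans (map_one φ₁).symm)
      rw [hx1, orderOf_one] at hx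
      exact hp.out.one_lt.ne hx
    have h1y : φ₁ y * x * (φ₁ y)⁻¹ = x ^ r := by
      have hxk : x = (x ^ k) ^ ((k : ZMod p)⁻¹).val := by
        conv_lhs => rw [← pow_one x]
        rw [← pow_mul]
        refine H95.pow_eq_of_zmod hx ?_
        rw [Nat.cast_one, Nat.cast_mul, ZMod.natCast_zmod_val, mul_inv_cancel₀ hk0]
      have e1 : φ₁ y * x ^ k * (φ₁ y)⁻¹ = x ^ (k * r) := by
        rw [← h1x, ← map_inv, ← map_mul, ← map_mul, hyx, map_pow, h1x, ← pow_mul]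
      conv_lhs => rw [hxk, ← conj_pow, e1, ← pow_mul]
      refine H95.pow_eq_of_zmod hx ?_
      rw [Nat.cast_mul, Nat.cast_mul, ZMod.natCast_zmod_val, mul_comm (k : ZMod p), mul_assoc,
        mul_inv_cancel₀ hk0, mul_one]
    obtain ⟨a, ha⟩ := hN _ h1y
    set φ₂ : MulAut G := MulAut.conj (x ^ a) * φ₁ with hφ₂
    have h2x : φ₂ x = x ^ k := by
      show x ^ a * φ₁ x * (x ^ a)⁻¹ = x ^ k
      rw [h1x, ← pow_add, mul_inv_eq_iff_eq_mul, ← pow_add, add_comm]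
    have h2y : φ₂ y = y := ha
    obtain ⟨c, hc⟩ := hcls (k % p) (Nat.mod_lt _ hp.out.pos) (fun h => hk0 (by
      rw [← ZMod.natCast_mod k p, h, Nat.cast_zero]))
    set ψ : MulAut G := MulAut.conj (y ^ c) * φ₂ with hψ
    obtain ⟨k', hk', h3x⟩ : ∃ k', (k' = 1 ∨ k' = k0) ∧ ψ x = x ^ k' := by
      refine ⟨r ^ c * (k % p) % p, hc, ?_⟩
      show y ^ c * φ₂ x * (y ^ c)⁻¹ = _
      rw [h2x, H95.conj_pow_iter hyx]
      refine H95.pow_eq_of_zmod hx ?_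
      rw [ZMod.natCast_mod, Nat.cast_mul, Nat.cast_mul, ZMod.natCast_mod]
    have h3y : ψ y = y := by
      show y ^ c * φ₂ y * (y ^ c)⁻¹ = y
      rw [h2y, mul_inv_eq_iff_eq_mul]
      exact (Commute.pow_self y c).eq
    have hin : φ * ψ⁻¹ ∈ Cfsg.Inn G := by
      have e1 : φ * ψ⁻¹ = (MulAut.conj g)⁻¹ * (MulAut.conj (x ^ a))⁻¹ * (MulAut.conj (y ^ c))⁻¹ := by
        rw [hψ, hφ₂, hφ₁]; group
      rw [e1]
      exact mul_mem (mul_mem (inv_mem ⟨g, rfl⟩) (inv_mem ⟨_, rfl⟩)) (inv_mem ⟨_, rfl⟩)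
    rcases htest ψ k' hk' h3x h3y with ⟨hk1, he⟩ | ⟨hk1, he⟩
    · left
      have h1 : ψ = 1 := hext ψ 1 (by rw [h3x, hk1, pow_one]; rfl) h3y he
      rwa [h1, inv_one, mul_one] at hin
    · right
      have h1 : ψ = φ₀ := hext ψ φ₀ (by rw [h3x, hk1, h0x]) (h3y.trans h0y.symm)
        (he.trans h0e.symm)
      rw [h1] at hin
      have := (Cfsg.innNormal G).conj_mem _ hin φ₀⁻¹
      simpa [mul_assoc] using this
  rw [Nat.card_eq_two_iff' (1 : Cfsg.Out G)]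
  refine ⟨(φ₀ : Cfsg.Out G), fun h => hout ((QuotientGroup.eq_one_iff φ₀).mp h), fun z hz => ?_⟩
  obtain ⟨φ, rfl⟩ := QuotientGroup.mk_surjective z
  rcases key φ with h | h
  · exact absurd ((QuotientGroup.eq_one_iff φ).mpr h) hz
  · exact (QuotientGroup.eq.mpr h).symm

end H94.Out
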