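import Mathlib
import Cfsg.Agent.H93.GroupOrder

/-!
Certified search for the solutions of `g * a = a' * g` in a group with a faithful coset table:
the suborbit label of a pair of nodes is invariant, and an element is determined by its images
of a few orbits of `a`.
-/

set_option autoImplicit false

namespace H94.Out

open H93 H93.Coset

/-- letters leading from a node back to node `0` along the tree -/
def back (D : Data) : ℕ → ℕ → List ℕ
  | 0, _ => []
  | f + 1, c => bif Nat.beq c 0 then [] else (D.PA c % 64) :: back D f (D.PA c / 64)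

/-- the label of a node from a list of masks -/
def labOf : List ℕ → ℕ → ℕ
  | [], _ => 0
  | m :: ms, q => 2 * labOf ms q + (Nat.testBit m q).toNat

/-- the fuel for back words and the masks -/
structure Lab where
  fuel : ℕ
  ms : List ℕ

/-- the label of a pair of nodes -/
def lb (D : Data) (L : Lab) (p q : ℕ) : ℕ := labOf L.ms (pathEnd D.T (back D L.fuel p) q)

noncomputable def labOK (D : Data) (L : Lab) : Bool :=
  (allRange 0 D.n fun c => (back D L.fuel c).all (fun g => Nat.blt g D.ng) &&
      Nat.beq (pathEnd D.T (back D L.fuel c) c) 0) &&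
    L.ms.all fun m => orbClosed D m

/-- the words agree on the given nodes -/
def agree (D : Data) (F : List ℕ) (u v : List ℕ) : Bool :=
  u.all (fun g => Nat.blt g D.ng) && v.all (fun g => Nat.blt g D.ng) &&
    F.all fun f => Nat.beq (pathEnd D.T u f) (pathEnd D.T v f)

/-- the words differ on one of the given nodes -/
def differ (D : Data) (F : List ℕ) (u v : List ℕ) : Bool :=
  u.all (fun g => Nat.blt g D.ng) && v.all (fun g => Nat.blt g D.ng) &&
    F.any fun f => decide (f < D.n) && !(Nat.beq (pathEnd D.T u f) (pathEnd D.T v f))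

/-- the nodes `F` determine every base point -/
noncomputable def fixOK (D : Data) (L : Lab) (base F : List ℕ) : Bool :=
  F.all (fun f => Nat.blt f D.n) &&
    base.all fun b => allRange 0 D.n fun q =>
      Nat.beq q b || F.any fun f => !(Nat.beq (lb D L f q) (lb D L f b))

/-- an orbit: first node, labels against the earlier nodes, labels along the orbit -/
structure Orb where
  b : ℕ
  ck : List ℕ
  wk : List ℕ

/-- the first `m + 1` nodes of an orbit -/
def iterPts (D : Data) (w : List ℕ) : ℕ → ℕ → List ℕ
  | 0, c => [c]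
  | m + 1, c => c :: iterPts D w m (pathEnd D.T w c)

def orbsPts (D : Data) (wa : List ℕ) (os : List Orb) : List ℕ :=
  os.flatMap fun o => iterPts D wa o.wk.length o.b

def cross (D : Data) (L : Lab) : List ℕ → List ℕ → ℕ → Bool
  | o :: O, k :: ks, c => Nat.beq (lb D L o c) k && cross D L O ks c
  | _, _, _ => true

noncomputable def within (D : Data) (L : Lab) (w : List ℕ) (c : ℕ) :
    List ℕ → ℕ → (List ℕ → Bool) → Bool
  | [], cur, K => K [cur]
  | k :: ks, cur, K => force (pathEnd D.T w cur) fun d =>
      !(Nat.beq (lb D L c d) k) || within D L w c ks d (fun O => K (cur :: O))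

def keyWithin (D : Data) (L : Lab) (w : List ℕ) (b : ℕ) : List ℕ → ℕ → Bool
  | [], _ => true
  | k :: ks, cur => Nat.beq (lb D L b (pathEnd D.T w cur)) k &&
      keyWithin D L w b ks (pathEnd D.T w cur)

def keyOK (D : Data) (L : Lab) (wa : List ℕ) : List Orb → List ℕ → Bool
  | [], _ => true
  | o :: os, F => Nat.blt o.b D.n && cross D L F o.ck o.b && keyWithin D L wa o.b o.wk o.b &&
      keyOK D L wa os (F ++ iterPts D wa o.wk.length o.b)

/-- every compatible system of images is the one of a candidate -/
noncomputable def srch (D : Data) (L : Lab) (w : List ℕ) (ok : List ℕ → Bool) :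
    List Orb → List ℕ → Bool
  | [], O => ok O
  | o :: os, O => allRange 0 D.n fun c =>
      !(cross D L O o.ck c) || within D L w c o.wk c (fun O' => srch D L w ok os (O ++ O'))

def isCand (D : Data) (F : List ℕ) (cands : List (List ℕ)) (O : List ℕ) : Bool :=
  cands.any fun v => decide (F.map (pathEnd D.T v) = O)

/-- all solutions of `g * ev wa = ev wa' * g` are among the candidates -/
noncomputable def solOK (D : Data) (L : Lab) (base : List ℕ) (wa wa' : List ℕ) (os : List Orb)
    (cands : List (List ℕ)) : Bool :=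
  wa.all (fun g => Nat.blt g D.ng) && wa'.all (fun g => Nat.blt g D.ng) &&
    cands.all (fun v => v.all fun g => Nat.blt g D.ng) &&
    keyOK D L wa os [] && fixOK D L base (orbsPts D wa os) &&
    srch D L wa' (isCand D (orbsPts D wa os) cands) os []

variable {D : Data} {G : Type*} [Group G] {gen : ℕ → G} {H : Subgroup G}

theorem all_blt {w : List ℕ} {n : ℕ} (h : w.all (fun g => Nat.blt g n) = true) : ∀ g ∈ w, g < n :=
  fun g hg => Data.blt_iff.mp (List.all_eq_true.mp h g hg)

theorem act_word (M : Model D gen H) {w : List ℕ} (hw : ∀ g ∈ w, g < D.ng) (c : Fin D.n) :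
    ((M.act (ev gen w) c : Fin D.n) : ℕ) = pathEnd D.T w c := M.act_ev w hw c

theorem mem_sub_iff (M : Model D gen H) (x : G) :
    x ∈ H ↔ M.act x ⟨0, M.tables.pos⟩ = ⟨0, M.tables.pos⟩ := by
  have h0 : cosetOf D gen H ⟨0, M.tables.pos⟩ = ((1 : G) : G ⧸ H) := Data.node_zero
  constructor
  · intro hx
    apply M.bijective.1
    rw [M.act_apply, h0]
    show ((x * 1 : G) : G ⧸ H) = _
    rw [QuotientGroup.eq, mul_one, mul_one]
    exact inv_mem hx
  · intro h
    have := congrArg (cosetOf D gen H) h
    rw [M.act_apply, h0] at this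
    have h2 : ((x * 1 : G) : G ⧸ H) = ((1 : G) : G ⧸ H) := this
    rw [QuotientGroup.eq, mul_one, mul_one] at h2
    simpa using inv_mem h2

theorem mask_closed [Finite G] (M : Model D gen H) {m : ℕ} (hm : orbClosed D m = true) {x : G}
    (hx : x ∈ H) (c : Fin D.n) : Nat.testBit m (M.act x c : ℕ) = Nat.testBit m c := by
  suffices key : ∀ y ∈ H, ∀ d : Fin D.n, Nat.testBit m d = true →
      Nat.testBit m (M.act y d : ℕ) = true by
    apply Bool.eq_iff_iff.mpr
    refine ⟨fun h => ?_, key x hx c⟩
    have := key x⁻¹ (inv_mem hx) _ h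
    rwa [← Equiv.Perm.mul_apply, ← map_mul, inv_mul_cancel, map_one, Equiv.Perm.one_apply] at this
  intro y hy
  rw [M.subgroup, ← Subgroup.mem_toSubmonoid, Subgroup.closure_toSubmonoid_of_finite] at hy
  induction hy using Submonoid.closure_induction_left with
  | one => intro d hd; simpa using hd
  | mul_left a ha b _ ih =>
    obtain ⟨w, hw, rfl⟩ := ha
    intro d hd
    rw [map_mul, Equiv.Perm.mul_apply,
      act_word M (M.tables.mem_letters w (List.mem_of_mem_drop hw))]
    have h1 := allRange_spec hm _ (Nat.zero_le _)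
      (by rw [Nat.zero_add]; exact (M.act b d).isLt)
    rw [ih d hd] at h1
    simp only [Bool.not_true, Bool.false_or, List.all_eq_true, walk_eq] at h1
    exact h1 w hw

theorem labOf_closed [Finite G] (M : Model D gen H) {x : G} (hx : x ∈ H) (c : Fin D.n) :
    ∀ ms : List ℕ, (∀ m ∈ ms, orbClosed D m = true) →
      labOf ms (M.act x c : ℕ) = labOf ms c := by
  intro ms
  induction ms with
  | nil => intro _; rfl
  | cons m ms ih =>
    intro h
    rw [labOf, labOf, mask_closed M (h m (by simp)) hx, ih fun a ha => h a (by simp [ha])]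

theorem lb_act [Finite G] (M : Model D gen H) {L : Lab} (hL : labOK D L = true) (g : G)
    (p q : Fin D.n) : lb D L (M.act g p : ℕ) (M.act g q : ℕ) = lb D L p q := by
  simp only [labOK, Bool.and_eq_true, List.all_eq_true] at hL
  have hb : ∀ c : Fin D.n, (∀ g ∈ back D L.fuel c, g < D.ng) ∧
      M.act (ev gen (back D L.fuel c)) c = ⟨0, M.tables.pos⟩ := by
    intro c
    have := allRange_spec hL.1 c (Nat.zero_le _) (by rw [Nat.zero_add]; exact c.isLt)
    simp only [Bool.and_eq_true, Nat.beq_eq] at this
    exact ⟨all_blt this.1, Fin.ext ((act_word M (all_blt this.1) c).trans this.2)⟩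
  set a := ev gen (back D L.fuel p) with ha
  set b := ev gen (back D L.fuel (M.act g p : ℕ)) with hb'
  have hmem : b * g * a⁻¹ ∈ H := by
    rw [mem_sub_iff M, map_mul, map_mul, map_inv, Equiv.Perm.mul_apply, Equiv.Perm.mul_apply,
      show (M.act a)⁻¹ ⟨0, M.tables.pos⟩ = p from Equiv.Perm.inv_eq_iff_eq.mpr (hb p).2.symm]
    exact (hb _).2
  have key := labOf_closed M hmem (M.act a q) L.ms hL.2
  rw [map_mul, map_mul, map_inv, Equiv.Perm.mul_apply, Equiv.Perm.mul_apply, Equiv.Perm.inv_def,
    Equiv.symm_apply_apply, act_word M (hb _).1, act_word M (hb p).1] at key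
  exact key

/-- the pointwise stabiliser of a base is trivial -/
theorem eq_one_of_base [Finite G] (M : Model D gen H) {ls : List Level}
    (hls : chainOK D [] ls = true) (hN : chainProd ls = Nat.card G) {x : G}
    (hx : ∀ b ∈ ls.map (·.1), ∀ c : Fin D.n, (c : ℕ) = b → M.act x c = c) : x = 1 := by
  have aux : ∀ (ls : List Level) (pts : List ℕ), chainOK D pts ls = true →
      chainProd ls * Nat.card (fixSub M.act ((ls.map (·.1)).reverse ++ pts)) ≤
        Nat.card (fixSub M.act pts) := by
    intro ls
    induction ls with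
    | nil => intro pts _; simp [chainProd]
    | cons l ls ih =>
      intro pts h
      simp only [chainOK, Bool.and_eq_true] at h
      have h1 := ih _ h.2
      have e : (List.map (·.1) (l :: ls)).reverse ++ pts =
          (List.map (·.1) ls).reverse ++ (l.1 :: pts) := by simp
      rw [e]
      calc chainProd (l :: ls) * Nat.card (fixSub M.act ((List.map (·.1) ls).reverse ++ (l.1 :: pts)))
          = (l.2.2.length + 1) * (chainProd ls *
              Nat.card (fixSub M.act ((List.map (·.1) ls).reverse ++ (l.1 :: pts)))) := by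
            simp [chainProd, Nat.mul_assoc]
        _ ≤ (l.2.2.length + 1) * Nat.card (fixSub M.act (l.1 :: pts)) :=
            Nat.mul_le_mul le_rfl h1
        _ ≤ Nat.card (fixSub M.act pts) := M.chain_step h.1
  have h := (aux ls [] hls).trans (Nat.le_of_dvd Nat.card_pos (Subgroup.card_subgroup_dvd_card _))
  rw [hN] at h
  have h1 : Nat.card (fixSub M.act ((ls.map (·.1)).reverse ++ [])) = 1 := by
    have h0 : 0 < Nat.card (fixSub M.act ((ls.map (·.1)).reverse ++ [])) := Nat.card_pos
    exact le_antisymm (by simpa using h) h0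
  have hmem : x ∈ fixSub M.act ((ls.map (·.1)).reverse ++ []) := fun c hc =>
    hx _ (by simpa using hc) c rfl
  rw [Subgroup.card_eq_one.mp h1, Subgroup.mem_bot] at hmem
  exact hmem

/-- the model with a certified base and labels -/
structure Ctx (M : Model D gen H) (L : Lab) (base : List ℕ) : Prop where
  lab : labOK D L = true
  trivial : ∀ x : G, (∀ b ∈ base, ∀ c : Fin D.n, (c : ℕ) = b → M.act x c = c) → x = 1

variable {M : Model D gen H} {L : Lab} {base : List ℕ}

/-- the node to which `x` takes `c` -/
noncomputable def img (M : Model D gen H) (x : G) (c : ℕ) : ℕ :=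
  if h : c < D.n then (M.act x ⟨c, h⟩ : ℕ) else c

theorem img_lt (x : G) {c : ℕ} (h : c < D.n) : img M x c < D.n := by
  rw [img, dif_pos h]; exact Fin.isLt _

theorem img_word {w : List ℕ} (hw : ∀ g ∈ w, g < D.ng) {c : ℕ} (h : c < D.n) :
    img M (ev gen w) c = pathEnd D.T w c := by
  rw [img, dif_pos h]; exact act_word M hw _

theorem img_mul (x y : G) {c : ℕ} (h : c < D.n) : img M (x * y) c = img M x (img M y c) := by
  rw [img, dif_pos h, img, dif_pos (img_lt (M := M) y h), map_mul, Equiv.Perm.mul_apply]
  simp only [img, dif_pos h]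

theorem eq_of_img [Finite G] (C : Ctx M L base) {F : List ℕ} (hF : fixOK D L base F = true)
    {x y : G} (h : ∀ f ∈ F, img M x f = img M y f) : x = y := by
  simp only [fixOK, Bool.and_eq_true, List.all_eq_true, Data.blt_iff] at hF
  have hfix : ∀ f ∈ F, ∀ c : Fin D.n, (c : ℕ) = f → M.act (y⁻¹ * x) c = c := by
    intro f hf c hc
    subst hc
    have h' := h _ hf
    simp only [img, dif_pos c.isLt] at h'
    rw [map_mul, map_inv, Equiv.Perm.mul_apply, Equiv.Perm.inv_eq_iff_eq]
    exact Fin.ext h'
  refine (inv_mul_eq_one.mp (C.trivial (y⁻¹ * x) fun b hb c hc => ?_)).symm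
  subst hc
  by_contra hne
  have h1 := allRange_spec (hF.2 _ hb) _ (Nat.zero_le _)
    (by rw [Nat.zero_add]; exact (M.act (y⁻¹ * x) c).isLt)
  simp only [Bool.or_eq_true, Nat.beq_eq, List.any_eq_true, Bool.not_eq_true'] at h1
  rcases h1 with h1 | ⟨f, hf, h1⟩
  · exact hne (Fin.ext h1)
  · have h2 := lb_act M C.lab (y⁻¹ * x) ⟨f, hF.1 f hf⟩ c
    rw [hfix f hf ⟨f, hF.1 f hf⟩ rfl] at h2
    simp only at h2
    rw [h2] at h1
    exact Bool.noConfusion (h1.symm.trans (Nat.beq_refl _))

theorem eq_of_agree [Finite G] (C : Ctx M L base) {F : List ℕ} (hF : fixOK D L base F = true)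
    {u v : List ℕ} (h : agree D F u v = true) : ev gen u = ev gen v := by
  simp only [agree, Bool.and_eq_true] at h
  refine eq_of_img C hF fun f hf => ?_
  have hf' : f < D.n := by
    simp only [fixOK, Bool.and_eq_true, List.all_eq_true, Data.blt_iff] at hF
    exact hF.1 f hf
  rw [img_word (all_blt h.1.1) hf', img_word (all_blt h.1.2) hf']
  simpa using List.all_eq_true.mp h.2 f hf

theorem ne_of_differ {F : List ℕ} {u v : List ℕ} (h : differ D F u v = true) (M : Model D gen H) :
    ev gen u ≠ ev gen v := by
  simp only [differ, Bool.and_eq_true, List.any_eq_true, decide_eq_true_eq, Bool.not_eq_true'] at h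
  obtain ⟨⟨hu, hv⟩, f, -, hf, hne⟩ := h
  intro e
  have h2 : img M (ev gen u) f = img M (ev gen v) f := by rw [e]
  rw [img_word (all_blt hu) hf, img_word (all_blt hv) hf] at h2
  rw [h2] at hne
  exact Bool.noConfusion (hne.symm.trans (Nat.beq_refl _))

theorem cross_img [Finite G] (C : Ctx M L base) (g : G) {c : ℕ} (hc : c < D.n) :
    ∀ (F ck : List ℕ), (∀ f ∈ F, f < D.n) → cross D L F ck c = true →
      cross D L (F.map (img M g)) ck (img M g c) = true := by
  intro F
  induction F with
  | nil => intro ck _ _; rfl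
  | cons f F ih =>
    intro ck hF h
    match ck with
    | [] => rfl
    | k :: ks =>
      simp only [cross, Bool.and_eq_true] at h
      simp only [List.map_cons, cross, Bool.and_eq_true]
      refine ⟨?_, ih ks (fun a ha => hF a (by simp [ha])) h.2⟩
      have hf : f < D.n := hF f (by simp)
      rw [img, dif_pos hf, img, dif_pos hc, lb_act M C.lab g ⟨f, hf⟩ ⟨c, hc⟩]
      exact h.1

theorem within_img [Finite G] (C : Ctx M L base) {g : G} {wa wa' : List ℕ}
    (ha : ∀ i ∈ wa, i < D.ng) (ha' : ∀ i ∈ wa', i < D.ng) (hg : g * ev gen wa = ev gen wa' * g)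
    {b : ℕ} (hb : b < D.n) :
    ∀ (wk : List ℕ) (cur : ℕ) (K : List ℕ → Bool), cur < D.n →
      keyWithin D L wa b wk cur = true →
      within D L wa' (img M g b) wk (img M g cur) K = true →
      K ((iterPts D wa wk.length cur).map (img M g)) = true := by
  intro wk
  induction wk with
  | nil => intro cur K _ _ h; simpa [within, iterPts] using h
  | cons k ks ih =>
    intro cur K hcur hk h
    simp only [keyWithin, Bool.and_eq_true, Nat.beq_eq] at hk
    have hd : pathEnd D.T wa cur < D.n := pathEnd_lt M.tables wa ha hcur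
    have e : pathEnd D.T wa' (img M g cur) = img M g (pathEnd D.T wa cur) := by
      rw [← img_word (M := M) ha' (img_lt g hcur), ← img_mul _ _ hcur, ← hg, img_mul _ _ hcur,
        img_word ha hcur]
    simp only [within, force_eq, Bool.or_eq_true, Bool.not_eq_true'] at h
    rw [e] at h
    have hlb : lb D L (img M g b) (img M g (pathEnd D.T wa cur)) = k := by
      rw [img, dif_pos hb, img, dif_pos hd, lb_act M C.lab g ⟨b, hb⟩ ⟨_, hd⟩]
      exact hk.1
    rcases h with h | h
    · rw [hlb] at h
      exact Bool.noConfusion (h.symm.trans (Nat.beq_refl _))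
    · exact ih _ (fun O => K (img M g cur :: O)) hd hk.2 h

theorem iterPts_lt (M : Model D gen H) {w : List ℕ} (hw : ∀ i ∈ w, i < D.ng) :
    ∀ (m c : ℕ), c < D.n → ∀ f ∈ iterPts D w m c, f < D.n := by
  intro m
  induction m with
  | zero => intro c hc f hf; simp [iterPts] at hf; exact hf ▸ hc
  | succ m ih =>
    intro c hc f hf
    simp only [iterPts, List.mem_cons] at hf
    rcases hf with rfl | hf
    · exact hc
    · exact ih _ (pathEnd_lt M.tables w hw hc) f hf

theorem srch_img [Finite G] (C : Ctx M L base) {g : G} {wa wa' : List ℕ}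
    (ha : ∀ i ∈ wa, i < D.ng) (ha' : ∀ i ∈ wa', i < D.ng) (hg : g * ev gen wa = ev gen wa' * g)
    (ok : List ℕ → Bool) :
    ∀ (os : List Orb) (F : List ℕ), (∀ f ∈ F, f < D.n) → keyOK D L wa os F = true →
      srch D L wa' ok os (F.map (img M g)) = true →
      ok ((F ++ orbsPts D wa os).map (img M g)) = true := by
  intro os
  induction os with
  | nil => intro F _ _ h; simpa [srch, orbsPts] using h
  | cons o os ih =>
    intro F hF hk h
    simp only [keyOK, Bool.and_eq_true, Data.blt_iff] at hk
    obtain ⟨⟨⟨hb, hc⟩, hw⟩, hrest⟩ := hk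
    have h1 := allRange_spec h (img M g o.b) (Nat.zero_le _)
      (by rw [Nat.zero_add]; exact img_lt g hb)
    simp only [cross_img C g hb F o.ck hF hc, Bool.not_true, Bool.false_or] at h1
    have h2 := within_img C ha ha' hg hb o.wk o.b _ hb hw h1
    simp only [← List.map_append] at h2
    have h3 := ih _ (fun f hf => (List.mem_append.mp hf).elim (hF f)
      (iterPts_lt M ha _ _ hb f)) hrest h2
    simpa [orbsPts, List.append_assoc] using h3

/-- the solutions are the candidates -/
theorem sol_mem [Finite G] (C : Ctx M L base) {wa wa' : List ℕ} {os : List Orb}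
    {cands : List (List ℕ)} (h : solOK D L base wa wa' os cands = true) {g : G}
    (hg : g * ev gen wa = ev gen wa' * g) : ∃ v ∈ cands, g = ev gen v := by
  simp only [solOK, Bool.and_eq_true] at h
  obtain ⟨⟨⟨⟨⟨ha, ha'⟩, hc⟩, hk⟩, hF⟩, hs⟩ := h
  have h1 := srch_img C (all_blt ha) (all_blt ha') hg _ os [] (by simp) hk (by simpa using hs)
  simp only [List.nil_append, isCand, List.any_eq_true, decide_eq_true_eq] at h1
  obtain ⟨v, hv, hmap⟩ := h1
  refine ⟨v, hv, eq_of_img C hF fun f hf => ?_⟩
  have hf' : f < D.n := by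
    simp only [fixOK, Bool.and_eq_true, List.all_eq_true, Data.blt_iff] at hF
    exact hF.1 f hf
  rw [img_word (all_blt (List.all_eq_true.mp hc v hv)) hf']
  exact ((List.map_inj_left.mp hmap) f hf).symm

/-- evaluating a substituted word -/
theorem ev_flatMap (f : ℕ → List ℕ) (u : List ℕ) :
    ev gen (u.flatMap f) = ev (fun j => ev gen (f j)) u := by
  induction u with
  | nil => rfl
  | cons j u ih => rw [List.flatMap_cons, ev_append, ih]; rfl

theorem map_ev {K : Type*} [Group K] (f : G →* K) (u : List ℕ) :
    f (ev gen u) = ev (fun j => f (gen j)) u := by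
  induction u with
  | nil => exact map_one f
  | cons j u ih => rw [ev, ev, map_mul, ih]

theorem ev_congr {gen' : ℕ → G} (u : List ℕ) (h : ∀ j ∈ u, gen j = gen' j) :
    ev gen u = ev gen' u := by
  induction u with
  | nil => rfl
  | cons j u ih =>
    rw [ev, ev, ih (fun a ha => h a (by simp [ha])), h j (by simp)]

end H94.Out
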