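import Mathlib
import Cfsg.Agent.H94.Out.Search

/-!
Systems of images that come from a label-preserving permutation outside the group are excluded by
sifting through a chain whose orbits are exact.
-/

set_option autoImplicit false

namespace H94.Out

open H93 H93.Coset

/-- images of the first nodes, images of the base, a word moving the base as prescribed, the
level at which the sifted image leaves the orbit -/
structure Wit where
  O : List ℕ
  im : List ℕ
  w : List ℕ
  j : ℕ

/-- the orbit masks of the levels -/
noncomputable def maskOK (D : Data) : List Level → List ℕ → Bool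
  | [], [] => true
  | l :: ls, m :: ms => decide (orbFill (withWords D l.2.1) l.2.2 (2 ^ l.1) = some m) &&
      maskOK D ls ms
  | _, _ => false

/-- `c` is the only node with the same labels against `O` as `b` against `F` -/
noncomputable def imgOK (D : Data) (L : Lab) (F O : List ℕ) (b c : ℕ) : Bool :=
  allRange 0 D.n fun q => Nat.beq q c || (F.zip O).any fun fo =>
    !(Nat.beq (lb D L fo.2 q) (lb D L fo.1 b))

noncomputable def witOK (D : Data) (L : Lab) (base ms F : List ℕ) (O : List ℕ) (e : Wit) : Bool :=
  decide (e.O = O) && Nat.blt e.j base.length && e.w.all (fun g => Nat.blt g D.ng) &&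
    (List.range (e.j + 1)).all (fun i =>
      Nat.blt (base.getD i 0) D.n && imgOK D L F O (base.getD i 0) (e.im.getD i 0)) &&
    (List.range e.j).all (fun i =>
      Nat.beq (pathEnd D.T e.w (base.getD i 0)) (e.im.getD i 0)) &&
    !(Nat.testBit (ms.getD e.j 0) (pathEnd D.T e.w.reverse (e.im.getD e.j 0)))

noncomputable def solElimOK (D : Data) (L : Lab) (base ms : List ℕ) (wa wa' : List ℕ)
    (os : List Orb) (cands : List (List ℕ)) (wits : List Wit) : Bool :=
  wa.all (fun g => Nat.blt g D.ng) && wa'.all (fun g => Nat.blt g D.ng) &&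
    cands.all (fun v => v.all fun g => Nat.blt g D.ng) &&
    keyOK D L wa os [] && fixOK D L base (orbsPts D wa os) &&
    srch D L wa' (fun O => isCand D (orbsPts D wa os) cands O ||
      wits.any (witOK D L base ms (orbsPts D wa os) O)) os []

variable {D : Data} {G : Type*} [Group G] {gen : ℕ → G} {H : Subgroup G}
  {M : Model D gen H} {L : Lab} {base : List ℕ}

theorem orbit_mask [Finite G] (M : Model D gen H) :
    ∀ (ls : List Level) (ms : List ℕ) (pts : List ℕ), chainOK D pts ls = true →
      maskOK D ls ms = true → Nat.card (fixSub M.act pts) ≤ chainProd ls →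
      ∀ (j : ℕ) (hj : j < ls.length) (x : G), x ∈ fixSub M.act pts →
        (∀ i (hi : i < j), ∀ c : Fin D.n, (c : ℕ) = (ls[i]'(by omega)).1 → M.act x c = c) →
        ∀ c : Fin D.n, (c : ℕ) = ls[j].1 → Nat.testBit (ms.getD j 0) (M.act x c : ℕ) = true := by
  intro ls
  induction ls with
  | nil => intro ms pts _ _ _ j hj; simp at hj
  | cons l ls ih =>
    intro ms pts h hm hcard j hj x hx hfix c hc
    obtain ⟨x0, ws, cert⟩ := l
    match ms with
    | [] => simp [maskOK] at hm
    | m :: ms =>
      simp only [maskOK, Bool.and_eq_true, decide_eq_true_eq] at hm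
      obtain ⟨hfill, hm⟩ := hm
      simp only [chainOK, Bool.and_eq_true] at h
      obtain ⟨hlev, hrest⟩ := h
      simp only [levelOK, Bool.and_eq_true, Data.blt_iff] at hlev
      obtain ⟨⟨⟨hx0, hlet⟩, hfixw⟩, -⟩ := hlev
      letI : MulAction G (Fin D.n) := MulAction.compHom _ M.act
      set P := fixSub M.act pts with hP
      have hlet' : ∀ w ∈ ws, ∀ g ∈ w, g < D.ng := fun w hw g hg => by
        simpa [Data.blt_iff] using List.all_eq_true.mp (List.all_eq_true.mp hlet w hw) g hg
      have hwP : ∀ w ∈ ws, ev gen w ∈ P := fun w hw d hd => by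
        refine Fin.ext ?_
        rw [M.act_ev w (hlet' w hw)]
        simpa using List.all_eq_true.mp (List.all_eq_true.mp hfixw w hw) _ hd
      obtain ⟨s1, s2⟩ := orbFill_spec cert hfill
      obtain ⟨S', hS', hScard⟩ := s2 {x0} (fun i => by simp [Nat.testBit_two_pow, eq_comm])
      have hreach : ∀ d, Nat.testBit m d = true →
          ∃ hd : d < D.n, (⟨d, hd⟩ : Fin D.n) ∈ MulAction.orbit P (⟨x0, hx0⟩ : Fin D.n) := by
        refine s1 (fun d => ∃ hd : d < D.n,
          (⟨d, hd⟩ : Fin D.n) ∈ MulAction.orbit P (⟨x0, hx0⟩ : Fin D.n))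
          (fun d hd => ?_) (fun p w hp hw => ?_)
        · rw [Nat.testBit_two_pow, decide_eq_true_eq] at hd
          subst hd
          exact ⟨hx0, MulAction.mem_orbit_self _⟩
        · obtain ⟨hp, a, ha⟩ := hp
          have hw' : w ∈ ws := by simpa [withWords] using hw
          refine ⟨pathEnd_lt M.tables w (hlet' w hw') hp, ⟨ev gen w, hwP w hw'⟩ * a, ?_⟩
          show (⟨ev gen w, hwP w hw'⟩ * a) • (⟨x0, hx0⟩ : Fin D.n) = _
          rw [mul_smul, show a • (⟨x0, hx0⟩ : Fin D.n) = ⟨p, hp⟩ from ha]
          exact Fin.ext (M.act_ev w (hlet' w hw') _)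
      have hstab : Nat.card (MulAction.stabilizer P (⟨x0, hx0⟩ : Fin D.n)) =
          Nat.card (fixSub M.act (x0 :: pts)) := by
        refine Nat.card_congr ⟨fun a => ⟨(a : P).1, fun d hd => ?_⟩,
          fun a => ⟨⟨a.1, fun d hd => a.2 d (List.mem_cons_of_mem _ hd)⟩, a.2 ⟨x0, hx0⟩ (by simp)⟩,
          fun _ => rfl, fun _ => rfl⟩
        rcases List.mem_cons.mp hd with hd | hd
        · obtain rfl : d = ⟨x0, hx0⟩ := Fin.ext hd
          exact a.2
        · exact (a : P).2 d hd
      set O := MulAction.orbit P (⟨x0, hx0⟩ : Fin D.n) with hO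
      have hprod : O.ncard * Nat.card (fixSub M.act (x0 :: pts)) = Nat.card P := by
        rw [← hstab, ← Nat.card_coe_set_eq, ← Nat.card_prod]
        exact Nat.card_congr (MulAction.orbitProdStabilizerEquivGroup P _)
      have hsub : (S' : Set ℕ) ⊆ Fin.val '' O := fun d hd => by
        obtain ⟨hd', hmem⟩ := hreach d ((hS' d).mp hd)
        exact ⟨_, hmem, rfl⟩
      have hlen : cert.length + 1 ≤ O.ncard := by
        have := Set.ncard_le_ncard hsub (Set.toFinite _)
        rw [Set.ncard_coe_finset, hScard, Finset.card_singleton,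
          Set.ncard_image_of_injective _ Fin.val_injective] at this
        omega
      have hlow : chainProd ls ≤ Nat.card (fixSub M.act (x0 :: pts)) := by
        simpa using M.chain_bound_aux ⊥ (by simp) ls _ hrest
      have hprod' : O.ncard * Nat.card (fixSub M.act (x0 :: pts)) ≤
          (cert.length + 1) * chainProd ls := hprod.le.trans hcard
      match j with
      | 0 =>
        obtain rfl : c = ⟨x0, hx0⟩ := Fin.ext hc
        have hcardO : O.ncard ≤ cert.length + 1 := by
          refine Nat.le_of_mul_le_mul_right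
            (le_trans hprod' (Nat.mul_le_mul le_rfl hlow)) Nat.card_pos
        have heq : (S' : Set ℕ) = Fin.val '' O := by
          refine Set.eq_of_subset_of_ncard_le hsub ?_ (Set.toFinite _)
          rw [Set.ncard_image_of_injective _ Fin.val_injective, Set.ncard_coe_finset, hScard,
            Finset.card_singleton]
          omega
        show Nat.testBit m _ = true
        rw [← hS', ← Finset.mem_coe, heq]
        exact ⟨_, ⟨⟨x, hx⟩, rfl⟩, rfl⟩
      | j + 1 =>
        have hxm : x ∈ fixSub M.act (x0 :: pts) := fun d hd => by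
          rcases List.mem_cons.mp hd with hd | hd
          · exact hfix 0 (Nat.succ_pos _) d (by simpa using hd)
          · exact hx d hd
        have hcard' : Nat.card (fixSub M.act (x0 :: pts)) ≤ chainProd ls := by
          refine Nat.le_of_mul_le_mul_left
            (le_trans (Nat.mul_le_mul hlen le_rfl) hprod') (Nat.succ_pos _)
        exact ih ms _ hrest hm hcard' j (by simpa using hj) x hxm
          (fun i hi d hd => hfix (i + 1) (by omega) d (by simpa using hd)) c (by simpa using hc)

/-- the solutions are the candidates, the other systems of images being excluded -/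
theorem solElim_mem [Finite G] (C : Ctx M L base) {ls : List Level} {ms : List ℕ}
    (hls : chainOK D [] ls = true) (hN : chainProd ls = Nat.card G) (hbase : ls.map (·.1) = base)
    (hms : maskOK D ls ms = true) {wa wa' : List ℕ} {os : List Orb} {cands : List (List ℕ)}
    {wits : List Wit} (h : solElimOK D L base ms wa wa' os cands wits = true) {g : G}
    (hg : g * ev gen wa = ev gen wa' * g) : ∃ v ∈ cands, g = ev gen v := by
  simp only [solElimOK, Bool.and_eq_true] at h
  obtain ⟨⟨⟨⟨⟨ha, ha'⟩, hc⟩, hk⟩, hF⟩, hs⟩ := h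
  have h1 := srch_img C (all_blt ha) (all_blt ha') hg _ os [] (by simp) hk (by simpa using hs)
  simp only [List.nil_append, Bool.or_eq_true] at h1
  have hFlt : ∀ f ∈ orbsPts D wa os, f < D.n := by
    simp only [fixOK, Bool.and_eq_true, List.all_eq_true, Data.blt_iff] at hF
    exact hF.1
  rcases h1 with h1 | h1
  · simp only [isCand, List.any_eq_true, decide_eq_true_eq] at h1
    obtain ⟨v, hv, hmap⟩ := h1
    refine ⟨v, hv, eq_of_img C hF fun f hf => ?_⟩
    rw [img_word (all_blt (List.all_eq_true.mp hc v hv)) (hFlt f hf)]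
    exact ((List.map_inj_left.mp hmap) f hf).symm
  · exfalso
    simp only [List.any_eq_true, witOK, Bool.and_eq_true, decide_eq_true_eq, Data.blt_iff,
      List.all_eq_true, List.mem_range, Nat.beq_eq, Bool.not_eq_true'] at h1
    obtain ⟨e, -, ⟨⟨⟨⟨-, hj⟩, hw⟩, him⟩, hbase'⟩, hbit⟩ := h1
    have hwl : ∀ i ∈ e.w, i < D.ng := fun i hi => hw i hi
    have himg : ∀ i < e.j + 1, ∃ hb : base.getD i 0 < D.n,
        (M.act g ⟨_, hb⟩ : ℕ) = e.im.getD i 0 := by
      intro i hi
      obtain ⟨hb, hu⟩ := him i hi
      refine ⟨hb, ?_⟩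
      by_contra hne
      have h3 := allRange_spec hu _ (Nat.zero_le _)
        (by rw [Nat.zero_add]; exact (M.act g ⟨_, hb⟩).isLt)
      simp only [Bool.or_eq_true, Nat.beq_eq, List.any_eq_true, Bool.not_eq_true'] at h3
      rcases h3 with h3 | ⟨⟨f, o⟩, hfo, h3⟩
      · exact hne h3
      · rw [List.zip_map_right, List.mem_map] at hfo
        obtain ⟨⟨f', f''⟩, hmem, hEq⟩ := hfo
        simp only [Prod.map, id, Prod.mk.injEq] at hEq
        obtain ⟨rfl, rfl⟩ := hEq
        have hsame : f' = f'' := by
          obtain ⟨k, hk', hkz⟩ := List.getElem_of_mem hmem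
          simp only [List.getElem_zip, Prod.mk.injEq] at hkz
          exact hkz.1.symm.trans hkz.2
        subst hsame
        have hf := hFlt f' (List.of_mem_zip hmem).1
        have h4 := lb_act M C.lab g ⟨f', hf⟩ ⟨_, hb⟩
        simp only [img, dif_pos hf] at h3
        rw [h4] at h3
        exact Bool.noConfusion (h3.symm.trans (Nat.beq_refl _))
    have hlen : e.j < ls.length := by
      rw [← hbase, List.length_map] at hj; exact hj
    have hget : ∀ i (hi : i < ls.length), base.getD i 0 = (ls[i]).1 := fun i hi => by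
      subst hbase
      rw [List.getD_eq_getElem _ _ (by simpa using hi), List.getElem_map]
    set x := (ev gen e.w)⁻¹ * g with hx
    have hinvw : ev gen e.w.reverse = (ev gen e.w)⁻¹ := ev_reverse gen M.inv _ hwl
    have hxact : ∀ c : Fin D.n, (M.act x c : ℕ) = pathEnd D.T e.w.reverse (M.act g c : ℕ) := by
      intro c
      rw [hx, ← hinvw, map_mul, Equiv.Perm.mul_apply,
        act_word M (fun i hi => hwl i (by simpa using hi))]
    obtain ⟨hbj, hgj⟩ := himg e.j (Nat.lt_succ_self _)
    have key := orbit_mask M ls ms [] hls hms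
      (by rw [hN]; exact Nat.le_of_dvd Nat.card_pos (Subgroup.card_subgroup_dvd_card _))
      e.j hlen x (fun c hc => by simp at hc) (fun i hi c hc => by
        obtain ⟨hbi, hgi⟩ := himg i (by omega)
        obtain rfl : c = ⟨base.getD i 0, hbi⟩ := Fin.ext (hc.trans (hget i (by omega)).symm)
        rw [hx, map_mul, map_inv, Equiv.Perm.mul_apply, Equiv.Perm.inv_eq_iff_eq]
        exact Fin.ext (hgi.trans ((hbase' i hi).symm.trans
          (act_word M hwl ⟨base.getD i 0, hbi⟩).symm)))
      ⟨_, hbj⟩ (hget e.j hlen)
    rw [hxact, hgj, hbit] at key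
    exact Bool.noConfusion key

end H94.Out
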