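import Mathlib
import Cfsg.Agent.H93.CosetCox
import Cfsg.Agent.H94.Out.Search
import Cfsg.Agent.H94.Out.Elim
import Cfsg.Agent.H94.Out.Crit

/-!
Out = 2 from a certificate over a coset table of a presented group.
-/

set_option autoImplicit false

namespace H94.Out

open H93 H93.Coset

/-- the certificate: the three elements, the solution lists, generation and the outer map -/
structure Cert where
  p : ℕ
  r : ℕ
  k0 : ℕ
  m : ℕ
  wx : List ℕ
  wy : List ℕ
  we : List ℕ
  we' : List ℕ
  ox : List Orb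
  oy : List Orb
  normList : List (List ℕ)
  normShift : List ℕ
  eList : List (List ℕ)
  sep1 : List (List ℕ × List ℕ)
  sep0 : List (List ℕ × List ℕ)
  gw : List (List ℕ)
  v : List (List ℕ)
  /-- exact orbit masks of the chain, and excluded systems of images -/
  ms : List ℕ
  witNorm : List Wit := []
  witNone : List Wit := []
  witE : List Wit := []

namespace Cert

variable (C : Cert) (D : Data) (L : Lab) (base : List ℕ)

/-- the nodes on which elements are compared -/
def F : List ℕ := orbsPts D C.wx C.ox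

/-- letters `0, 1, 2` to three words -/
def sub3 (a b c : List ℕ) (j : ℕ) : List ℕ := [a, b, c].getD j []

def vf (g : ℕ) : List ℕ := C.v.getD g []

noncomputable def elemOK : Bool :=
  fixOK D L base (C.F D) && agree D (C.F D) (expand (C.wx, C.p)) [] && differ D (C.F D) C.wx [] &&
    agree D (C.F D) (C.wx ++ C.wy) (C.wy ++ expand (C.wx, C.r)) &&
    agree D (C.F D) (C.wy ++ C.we) (C.we ++ expand (C.wy, C.m)) && differ D (C.F D) C.wy []

noncomputable def normOK : Bool :=
  solElimOK D L base C.ms C.wx (expand (C.wx, C.r)) C.ox C.normList C.witNorm &&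
    (List.range C.normList.length).all fun i =>
      agree D (C.F D) (C.normList.getD i [] ++ expand (C.wx, C.normShift.getD i 0))
        (expand (C.wx, C.normShift.getD i 0) ++ C.wy)

noncomputable def noneOK : Bool :=
  solElimOK D L base C.ms C.wx (expand (C.wx, C.k0)) C.ox [] C.witNone

noncomputable def eOK : Bool :=
  solElimOK D L base C.ms C.wy (expand (C.wy, C.m)) C.oy C.eList C.witE

/-- candidate `w` for the image of `we` at exponent `k` is `t` or violates the relation `uv` -/
noncomputable def sepOK (k : ℕ) (t w : List ℕ) (uv : List ℕ × List ℕ) : Bool :=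
  agree D (C.F D) w t ||
    (agree D (C.F D) (uv.1.flatMap (sub3 C.wx C.wy C.we)) (uv.2.flatMap (sub3 C.wx C.wy C.we)) &&
      differ D (C.F D) (uv.1.flatMap (sub3 (expand (C.wx, k)) C.wy w))
        (uv.2.flatMap (sub3 (expand (C.wx, k)) C.wy w)))

noncomputable def testOK : Bool :=
  (List.range C.eList.length).all fun i =>
    C.sepOK D 1 C.we (C.eList.getD i []) (C.sep1.getD i ([], [])) &&
      C.sepOK D C.k0 C.we' (C.eList.getD i []) (C.sep0.getD i ([], []))

noncomputable def genOK : Bool :=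
  (List.range D.ng).all fun g =>
    (C.gw.getD g []).all (fun j => Nat.blt j 3) &&
      agree D (C.F D) [g] ((C.gw.getD g []).flatMap (sub3 C.wx C.wy C.we))

noncomputable def mapOK : Bool :=
  ((List.range D.ng).all fun g => agree D (C.F D) (C.vf g ++ C.vf g) []) &&
    ((D.words.take D.nrel).all fun w => agree D (C.F D) (w.flatMap C.vf) []) &&
    agree D (C.F D) (C.wx.flatMap C.vf) (expand (C.wx, C.k0)) &&
    agree D (C.F D) (C.wy.flatMap C.vf) C.wy && agree D (C.F D) (C.we.flatMap C.vf) C.we'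

end Cert

variable {α : Type} [DecidableEq α] {D : Data} {edges : List (α × ℕ × α)}
  {extra : List (FreeGroup α)} {gl : List α} {ix : α → ℕ} {sub : List (FreeGroup α)}

theorem out_two_of_cert (Fit : CoxFit D edges extra gl ix sub)
    [IsSimpleGroup (Cfsg.Spor.CoxPresented α edges extra)]
    [Finite (Cfsg.Spor.CoxPresented α edges extra)]
    {ls : List Level} (hls : chainOK D [] ls = true)
    (hN : chainProd ls = Nat.card (Cfsg.Spor.CoxPresented α edges extra))
    (L : Lab) (hL : labOK D L = true) (C : Cert) (hms : maskOK D ls C.ms = true) (hp : C.p.Prime)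
    (hsq : ¬ C.p ^ 2 ∣ Nat.card (Cfsg.Spor.CoxPresented α edges extra))
    (hcls : ∀ k < C.p, k ≠ 0 → ∃ c, C.r ^ c * k % C.p = 1 ∨ C.r ^ c * k % C.p = C.k0)
    (h_elem : C.elemOK D L (ls.map (·.1)) = true) (h_norm : C.normOK D L (ls.map (·.1)) = true)
    (h_none : C.noneOK D L (ls.map (·.1)) = true) (h_e : C.eOK D L (ls.map (·.1)) = true)
    (h_test : C.testOK D = true) (h_gen : C.genOK D = true) (h_map : C.mapOK D = true) :
    Nat.card (Cfsg.Out (Cfsg.Spor.CoxPresented α edges extra)) = 2 := by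
  let G := Cfsg.Spor.CoxPresented α edges extra
  let gen := coxGen edges extra gl
  have M := Fit.model
  have Cx : Ctx M L (ls.map (·.1)) := ⟨hL, fun x hx => eq_one_of_base M hls hN hx⟩
  have := Fact.mk hp
  simp only [Cert.elemOK, Bool.and_eq_true] at h_elem
  obtain ⟨⟨⟨⟨⟨hF, hxp⟩, hx1⟩, hyx⟩, hey⟩, hy0⟩ := h_elem
  have eqw : ∀ {u v : List ℕ}, agree D (C.F D) u v = true → ev gen u = ev gen v :=
    fun h => eq_of_agree Cx hF h
  set x := ev gen C.wx with hxd
  set y := ev gen C.wy with hyd
  set e := ev gen C.we with hed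
  have hxpow : x ^ C.p = 1 := by rw [hxd, ← ev_expand, eqw hxp]; rfl
  have hxne : x ≠ 1 := ne_of_differ hx1 M
  have hord : orderOf x = C.p := orderOf_eq_prime hxpow hxne
  have hyx' : y * x = x ^ C.r * y := by
    rw [hxd, hyd, ← ev_expand, ← ev_append, ← ev_append, eqw hyx]
  have hey' : e * y = y ^ C.m * e := by
    rw [hyd, hed, ← ev_expand, ← ev_append, ← ev_append, eqw hey]
  simp only [Cert.normOK, Bool.and_eq_true, List.all_eq_true, List.mem_range] at h_norm
  obtain ⟨hns, hnl⟩ := h_norm
  simp only [Cert.mapOK, Bool.and_eq_true, List.all_eq_true, List.mem_range] at h_map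
  obtain ⟨⟨⟨⟨hvi, hvr⟩, hvx⟩, hvy⟩, hve⟩ := h_map
  let f : α → G := fun a => ev gen (C.vf (ix a))
  have hinv : ∀ a, f a * f a = 1 := fun a => by
    show ev gen _ * ev gen _ = 1
    rw [← ev_append, eqw (hvi _ (Fit.ix_lt a))]; rfl
  have hrel : ∀ r ∈ Cfsg.Spor.coxRelators edges ∪ {r | r ∈ extra}, FreeGroup.lift f r = 1 := by
    intro r hr
    rw [lift_eq_ev f (fun j => ev gen (C.vf j)) ix (fun _ => rfl) hinv]
    have key : ∀ w ∈ D.words.take D.nrel, ev (fun j => ev gen (C.vf j)) w = 1 := fun w hw => by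
      rw [← ev_flatMap, eqw (hvr w hw)]; rfl
    rcases Fit.relCover r (mem_relList.mpr hr) with h | h
    · exact key _ h
    · have h1 := key _ h
      rw [ev_reverse (fun j => ev gen (C.vf j)) (m := D.ng)
        (fun g hg => by rw [← ev_append, eqw (hvi g hg)]; rfl) _ (fun g hg => ?_), inv_eq_one] at h1
      · exact h1
      · exact Fit.tables.mem_letters _ (List.mem_of_mem_take h) g (by simpa using hg)
  let φ : G →* G := PresentedGroup.toGroup hrel
  have hφg : ∀ j < D.ng, φ (gen j) = ev gen (C.vf j) := fun j hj => by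
    obtain ⟨a, rfl⟩ := Fit.exists_ix hj
    show φ (coxGen edges extra gl (ix a)) = _
    rw [Fit.gen_ix]
    exact PresentedGroup.toGroup.of hrel
  have hφw : ∀ w : List ℕ, (∀ j ∈ w, j < D.ng) → φ (ev gen w) = ev gen (w.flatMap C.vf) :=
    fun w hw => by
      rw [map_ev, ev_congr (gen' := fun j => ev gen (C.vf j)) w fun j hj => hφg j (hw j hj),
        ← ev_flatMap]
  simp only [Cert.eOK] at h_e
  simp only [solElimOK, Bool.and_eq_true] at h_e
  obtain ⟨⟨⟨⟨⟨hyl, -⟩, -⟩, -⟩, -⟩, -⟩ := id h_e
  have h_e' : solElimOK D L (ls.map (·.1)) C.ms C.wy (expand (C.wy, C.m)) C.oy C.eList C.witE = true := by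
    simp only [solElimOK, Bool.and_eq_true]; exact h_e
  have hxl : ∀ j ∈ C.wx, j < D.ng := by
    simp only [solElimOK, Bool.and_eq_true] at hns
    exact all_blt hns.1.1.1.1.1
  have hel : ∀ j ∈ C.we, j < D.ng := fun j hj => by
    simp only [agree, Bool.and_eq_true] at hey
    exact all_blt hey.1.1 j (List.mem_append_right _ hj)
  have hφx : φ x = x ^ C.k0 := by rw [hxd, hφw _ hxl, eqw hvx, ev_expand]
  have hφy : φ y = y := by rw [hyd, hφw _ (all_blt hyl), eqw hvy]
  have hnone : ∀ g : G, g * x * g⁻¹ ≠ x ^ C.k0 := by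
    intro g hg
    obtain ⟨v, hv, -⟩ := solElim_mem Cx hls hN rfl hms h_none (g := g) (by
      rw [ev_expand]; exact mul_inv_eq_iff_eq_mul.mp hg)
    simp at hv
  have hφinj : Function.Injective φ := by
    rw [← MonoidHom.ker_eq_bot_iff]
    refine (Subgroup.Normal.eq_bot_or_eq_top (inferInstance : φ.ker.Normal)).resolve_right fun h => ?_
    have hy1 : φ y = 1 := (MonoidHom.mem_ker).1 (h ▸ Subgroup.mem_top y : y ∈ φ.ker)
    rw [hφy] at hy1
    exact ne_of_differ hy0 M hy1
  let φ₀ : MulAut G := MulEquiv.ofBijective φ (Finite.injective_iff_bijective.mp hφinj)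
  have happ : ∀ z, φ₀ z = φ z := fun _ => rfl
  refine out_card_eq_two (G := G) x y e (ev gen C.we') C.r C.k0 hsq hord ?_ hcls ?_ ?_ ?_ φ₀
    ((happ x).trans hφx) ((happ y).trans hφy) ?_ ?_
  · rw [hyx', mul_inv_cancel_right]
  · intro g hg
    obtain ⟨w, hw, rfl⟩ := solElim_mem Cx hls hN rfl hms hns (g := g) (by
      rw [ev_expand]; exact mul_inv_eq_iff_eq_mul.mp hg)
    obtain ⟨i, hi, rfl⟩ := List.getElem_of_mem hw
    refine ⟨C.normShift.getD i 0, ?_⟩
    have h1 := eqw (hnl i hi)
    rw [ev_append, ev_append, ev_expand, List.getD_eq_getElem _ _ hi] at h1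
    rw [mul_inv_eq_iff_eq_mul]
    exact h1
  · rw [eq_top_iff, ← show Subgroup.closure (gen '' {g | g < D.ng}) = ⊤ from M.generates,
      Subgroup.closure_le]
    rintro _ ⟨g, hg, rfl⟩
    simp only [Cert.genOK, Bool.and_eq_true, List.all_eq_true, List.mem_range] at h_gen
    obtain ⟨hlet, hag⟩ := h_gen g hg
    have h1 := eqw hag
    rw [ev_flatMap, show ev gen [g] = gen g by simp [ev]] at h1
    rw [h1]
    refine ev_mem _ _ fun j hj => ?_
    have hj3 : j < 3 := Data.blt_iff.mp (hlet j hj)
    apply Subgroup.subset_closure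
    rcases (show j = 0 ∨ j = 1 ∨ j = 2 by omega) with rfl | rfl | rfl
    · exact Or.inl rfl
    · exact Or.inr (Or.inl rfl)
    · exact Or.inr (Or.inr rfl)
  · intro ψ k hk hψx hψy
    obtain ⟨w, hw, hwe⟩ := solElim_mem Cx hls hN rfl hms h_e' (g := ψ e) (by
      rw [ev_expand]
      calc ψ e * y = ψ e * ψ y := by rw [hψy]
        _ = ψ (e * y) := (map_mul ψ e y).symm
        _ = ψ (y ^ C.m * e) := by rw [hey']
        _ = y ^ C.m * ψ e := by rw [map_mul, map_pow, hψy])
    obtain ⟨i, hi, rfl⟩ := List.getElem_of_mem hw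
    simp only [Cert.testOK, Bool.and_eq_true, List.all_eq_true, List.mem_range] at h_test
    have ht := h_test i hi
    rw [List.getD_eq_getElem _ _ hi] at ht
    have hsep : ∀ (t : List ℕ) (uv : List ℕ × List ℕ),
        C.sepOK D k t C.eList[i] uv = true → ψ e = ev gen t := by
      intro t uv h
      simp only [Cert.sepOK, Bool.or_eq_true, Bool.and_eq_true] at h
      rcases h with h | ⟨hrel', hdiff⟩
      · rw [hwe, eqw h]
      · exfalso
        refine ne_of_differ hdiff M ?_
        have hmap : ∀ u : List ℕ, ψ (ev gen (u.flatMap (Cert.sub3 C.wx C.wy C.we))) =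
            ev gen (u.flatMap (Cert.sub3 (expand (C.wx, k)) C.wy C.eList[i])) := by
          intro u
          rw [ev_flatMap, ev_flatMap]
          refine (map_ev ψ.toMonoidHom u).trans (ev_congr u fun j _ => ?_)
          show ψ (ev gen (Cert.sub3 C.wx C.wy C.we j)) = _
          rcases (show j = 0 ∨ j = 1 ∨ j = 2 ∨ 3 ≤ j by omega) with rfl | rfl | rfl | hj
          · show ψ x = ev gen (expand (C.wx, k)); rw [ev_expand]; exact hψx
          · exact hψy
          · exact hwe
          · obtain ⟨d, rfl⟩ : ∃ d, j = d + 3 := ⟨j - 3, by omega⟩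
            exact map_one ψ
        rw [← hmap, ← hmap, eqw hrel']
    rcases hk with rfl | rfl
    · exact Or.inl ⟨rfl, hsep _ _ ht.1⟩
    · exact Or.inr ⟨rfl, hsep _ _ ht.2⟩
  · rw [happ, hed, hφw _ hel, eqw hve]
  · rintro ⟨g, hg⟩
    exact hnone g (by rw [← (happ x).trans hφx, ← hg]; rfl)

end H94.Out
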