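import Cfsg.Agent.H93.HeOrder
import Cfsg.Agent.H94.Out.Two

/-! Certificate for the outer automorphism group of the Held group (generated data). -/

set_option autoImplicit false
set_option maxRecDepth 100000
set_option linter.all false

namespace H94.Out.He

open H93 H93.Coset

def lab : Lab := ⟨17, [HeOrb.mask1, HeOrb.mask2, HeOrb.mask3, HeOrb.mask4]⟩

def cert : Cert where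
  p := 17
  r := 2
  k0 := 3
  m := 7
  wx := [1,3,4,2,6,4,2,3,2,5,4]
  wy := [3,2,3,2,1,4,3,5,3,2,3,2,1,3,2,3,4,2,3,6,3,5,2,1]
  we := [4,3,2,1,0,6,3,2,3,4,6,3,2,3,1,2,3,4,3]
  we' := [0,1,2,1,3,2,1,4,6,3,2,1,3,2,3,6,5,3,4,2,3,2,3,1,2,3,2,5,6,6,6,3,0,5,4]
  ox := [
  ⟨9, [], [1,8,8,8,4,8,4,8,8,4,8,4,8,8,8,2]⟩,
  ⟨0, [4,8,2,8,8,8,1,4,8,8,8,1,8,8,4,8,1], [8,8,8,8,8,8,4,8,8,4,8,8,8,8,8,8]⟩]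
  oy := [
  ⟨103, [], [1,8,2]⟩,
  ⟨47, [2,1,4,8], [8,8,2,8,1,8,8]⟩]
  normList := [
  [3,2,3,2,1,4,3,5,3,2,3,2,1,3,2,3,4,2,3,6,3,5,2,1],
  [3,2,3,2,1,4,3,5,3,2,3,2,1,3,2,3,4,2,3,6,3,5,2,1,1,3,4,2,6,4,2,3,2,5,4],
  [3,2,3,2,1,4,3,5,3,2,3,2,1,3,2,3,4,2,3,6,3,5,2,1,1,3,4,2,6,4,2,3,2,5,4,1,3,4,2,6,4,2,3,2,5,4],
  [3,2,3,2,1,4,3,5,3,2,3,2,1,3,2,3,4,2,3,6,3,5,2,1,1,3,4,2,6,4,2,3,2,5,4,1,3,4,2,6,4,2,3,2,5,4,1,3,4,2,6,4,2,3,2,5,4],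
  [3,2,3,2,1,4,3,5,3,2,3,2,1,3,2,3,4,2,3,6,3,5,2,1,1,3,4,2,6,4,2,3,2,5,4,1,3,4,2,6,4,2,3,2,5,4,1,3,4,2,6,4,2,3,2,5,4,1,3,4,2,6,4,2,3,2,5,4],
  [3,2,3,2,1,4,3,5,3,2,3,2,1,3,2,3,4,2,3,6,3,5,2,1,1,3,4,2,6,4,2,3,2,5,4,1,3,4,2,6,4,2,3,2,5,4,1,3,4,2,6,4,2,3,2,5,4,1,3,4,2,6,4,2,3,2,5,4,1,3,4,2,6,4,2,3,2,5,4],
  [3,2,3,2,1,4,3,5,3,2,3,2,1,3,2,3,4,2,3,6,3,5,2,1,1,3,4,2,6,4,2,3,2,5,4,1,3,4,2,6,4,2,3,2,5,4,1,3,4,2,6,4,2,3,2,5,4,1,3,4,2,6,4,2,3,2,5,4,1,3,4,2,6,4,2,3,2,5,4,1,3,4,2,6,4,2,3,2,5,4],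
  [3,2,3,2,1,4,3,5,3,2,3,2,1,3,2,3,4,2,3,6,3,5,2,1,1,3,4,2,6,4,2,3,2,5,4,1,3,4,2,6,4,2,3,2,5,4,1,3,4,2,6,4,2,3,2,5,4,1,3,4,2,6,4,2,3,2,5,4,1,3,4,2,6,4,2,3,2,5,4,1,3,4,2,6,4,2,3,2,5,4,1,3,4,2,6,4,2,3,2,5,4],
  [3,2,3,2,1,4,3,5,3,2,3,2,1,3,2,3,4,2,3,6,3,5,2,1,1,3,4,2,6,4,2,3,2,5,4,1,3,4,2,6,4,2,3,2,5,4,1,3,4,2,6,4,2,3,2,5,4,1,3,4,2,6,4,2,3,2,5,4,1,3,4,2,6,4,2,3,2,5,4,1,3,4,2,6,4,2,3,2,5,4,1,3,4,2,6,4,2,3,2,5,4,1,3,4,2,6,4,2,3,2,5,4],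
  [3,2,3,2,1,4,3,5,3,2,3,2,1,3,2,3,4,2,3,6,3,5,2,1,1,3,4,2,6,4,2,3,2,5,4,1,3,4,2,6,4,2,3,2,5,4,1,3,4,2,6,4,2,3,2,5,4,1,3,4,2,6,4,2,3,2,5,4,1,3,4,2,6,4,2,3,2,5,4,1,3,4,2,6,4,2,3,2,5,4,1,3,4,2,6,4,2,3,2,5,4,1,3,4,2,6,4,2,3,2,5,4,1,3,4,2,6,4,2,3,2,5,4],
  [3,2,3,2,1,4,3,5,3,2,3,2,1,3,2,3,4,2,3,6,3,5,2,1,1,3,4,2,6,4,2,3,2,5,4,1,3,4,2,6,4,2,3,2,5,4,1,3,4,2,6,4,2,3,2,5,4,1,3,4,2,6,4,2,3,2,5,4,1,3,4,2,6,4,2,3,2,5,4,1,3,4,2,6,4,2,3,2,5,4,1,3,4,2,6,4,2,3,2,5,4,1,3,4,2,6,4,2,3,2,5,4,1,3,4,2,6,4,2,3,2,5,4,1,3,4,2,6,4,2,3,2,5,4],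
  [3,2,3,2,1,4,3,5,3,2,3,2,1,3,2,3,4,2,3,6,3,5,2,1,1,3,4,2,6,4,2,3,2,5,4,1,3,4,2,6,4,2,3,2,5,4,1,3,4,2,6,4,2,3,2,5,4,1,3,4,2,6,4,2,3,2,5,4,1,3,4,2,6,4,2,3,2,5,4,1,3,4,2,6,4,2,3,2,5,4,1,3,4,2,6,4,2,3,2,5,4,1,3,4,2,6,4,2,3,2,5,4,1,3,4,2,6,4,2,3,2,5,4,1,3,4,2,6,4,2,3,2,5,4,1,3,4,2,6,4,2,3,2,5,4],
  [3,2,3,2,1,4,3,5,3,2,3,2,1,3,2,3,4,2,3,6,3,5,2,1,1,3,4,2,6,4,2,3,2,5,4,1,3,4,2,6,4,2,3,2,5,4,1,3,4,2,6,4,2,3,2,5,4,1,3,4,2,6,4,2,3,2,5,4,1,3,4,2,6,4,2,3,2,5,4,1,3,4,2,6,4,2,3,2,5,4,1,3,4,2,6,4,2,3,2,5,4,1,3,4,2,6,4,2,3,2,5,4,1,3,4,2,6,4,2,3,2,5,4,1,3,4,2,6,4,2,3,2,5,4,1,3,4,2,6,4,2,3,2,5,4,1,3,4,2,6,4,2,3,2,5,4],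
  [3,2,3,2,1,4,3,5,3,2,3,2,1,3,2,3,4,2,3,6,3,5,2,1,1,3,4,2,6,4,2,3,2,5,4,1,3,4,2,6,4,2,3,2,5,4,1,3,4,2,6,4,2,3,2,5,4,1,3,4,2,6,4,2,3,2,5,4,1,3,4,2,6,4,2,3,2,5,4,1,3,4,2,6,4,2,3,2,5,4,1,3,4,2,6,4,2,3,2,5,4,1,3,4,2,6,4,2,3,2,5,4,1,3,4,2,6,4,2,3,2,5,4,1,3,4,2,6,4,2,3,2,5,4,1,3,4,2,6,4,2,3,2,5,4,1,3,4,2,6,4,2,3,2,5,4,1,3,4,2,6,4,2,3,2,5,4],
  [3,2,3,2,1,4,3,5,3,2,3,2,1,3,2,3,4,2,3,6,3,5,2,1,1,3,4,2,6,4,2,3,2,5,4,1,3,4,2,6,4,2,3,2,5,4,1,3,4,2,6,4,2,3,2,5,4,1,3,4,2,6,4,2,3,2,5,4,1,3,4,2,6,4,2,3,2,5,4,1,3,4,2,6,4,2,3,2,5,4,1,3,4,2,6,4,2,3,2,5,4,1,3,4,2,6,4,2,3,2,5,4,1,3,4,2,6,4,2,3,2,5,4,1,3,4,2,6,4,2,3,2,5,4,1,3,4,2,6,4,2,3,2,5,4,1,3,4,2,6,4,2,3,2,5,4,1,3,4,2,6,4,2,3,2,5,4,1,3,4,2,6,4,2,3,2,5,4],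
  [3,2,3,2,1,4,3,5,3,2,3,2,1,3,2,3,4,2,3,6,3,5,2,1,1,3,4,2,6,4,2,3,2,5,4,1,3,4,2,6,4,2,3,2,5,4,1,3,4,2,6,4,2,3,2,5,4,1,3,4,2,6,4,2,3,2,5,4,1,3,4,2,6,4,2,3,2,5,4,1,3,4,2,6,4,2,3,2,5,4,1,3,4,2,6,4,2,3,2,5,4,1,3,4,2,6,4,2,3,2,5,4,1,3,4,2,6,4,2,3,2,5,4,1,3,4,2,6,4,2,3,2,5,4,1,3,4,2,6,4,2,3,2,5,4,1,3,4,2,6,4,2,3,2,5,4,1,3,4,2,6,4,2,3,2,5,4,1,3,4,2,6,4,2,3,2,5,4,1,3,4,2,6,4,2,3,2,5,4],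
  [3,2,3,2,1,4,3,5,3,2,3,2,1,3,2,3,4,2,3,6,3,5,2,1,1,3,4,2,6,4,2,3,2,5,4,1,3,4,2,6,4,2,3,2,5,4,1,3,4,2,6,4,2,3,2,5,4,1,3,4,2,6,4,2,3,2,5,4,1,3,4,2,6,4,2,3,2,5,4,1,3,4,2,6,4,2,3,2,5,4,1,3,4,2,6,4,2,3,2,5,4,1,3,4,2,6,4,2,3,2,5,4,1,3,4,2,6,4,2,3,2,5,4,1,3,4,2,6,4,2,3,2,5,4,1,3,4,2,6,4,2,3,2,5,4,1,3,4,2,6,4,2,3,2,5,4,1,3,4,2,6,4,2,3,2,5,4,1,3,4,2,6,4,2,3,2,5,4,1,3,4,2,6,4,2,3,2,5,4,1,3,4,2,6,4,2,3,2,5,4]]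
  normShift := [0,1,2,3,4,5,6,7,8,9,10,11,12,13,14,15,16]
  eList := [
  [4,3,2,1,0,6,3,2,3,4,6,3,2,3,1,2,3,4,3],
  [0,1,3,2,3,2,1,0,3,2,3,2,4,3,6,1,2,3,1,2,3,6,1,2,3,4],
  [0,1,2,3,5,3,2,1,3,2,6,5,3,4,6,2,3,1,2,3,6,3,1,2,3,1,2,4,0,2,3,2,6,3,3],
  [0,1,2,6,3,2,1,3,2,5,3,2,4,3,6,5,3,1,2,3,1,2,3,5,2],
  [1,2,4,6,3,2,3,2,1,6,3,2,3,5,0,1,2,3,2,3,5,3,1,2,3,0,0,4,3,2,4,6,4,4],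
  [2,6,3,2,1,0,4,3,2,1,6,3,2,3,6,1,2,3,5,4,1,2,3,6,2,0],
  [3,2,4,5,3,2,1,3,2,5,3,2,3,5,2,3,2,3,1,2,3,5,3,4,2,3],
  [1,2,1,3,2,6,3,2,1,5,3,2,6,3,5,3,4,3,1,2,3,1,2,3,4,0,6,1,4,4,1,5,1,6],
  [1,4,6,3,2,1,3,2,1,3,2,6,3,4,2,3,6,1,2,3,5,1,2,3,2,3,0,5,3,2,5,5,2,5,1],
  [5,3,2,3,2,1,6,3,2,1,5,3,2,4,3,5,3,2,3,1,2,3,5,2,3,0,5,4,5,3,1,5,0,1],
  [4,3,2,1,6,3,2,3,2,1,4,6,3,4,2,3,2,3,1,2,3,4,2,3,1],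
  [2,3,6,5,3,2,1,0,4,3,2,6,3,4,1,2,3,5,6,3,2],
  [1,4,3,2,1,6,3,2,3,4,3,6,3,2,3,5,1,2,3,2,3,6,2,3,2,1,2,5,0,3,5,5,2,6],
  [3,6,3,2,1,3,5,6,3,2,1,3,2,3,6,3,4,3,2,3,1,2,3,4,2,0],
  [2,4,3,2,1,3,2,3,4,6,3,2,4,3,1,2,3,6,5,3,0,1,2,3,6,3],
  [4,3,6,5,3,2,1,4,3,2,6,3,2,3,6,3,5,2,3,1,2,3,5,6,3,4]]
  ms := [0x3ffffffffffffffffffffffffffffffffffffffffffffffffffffffffffffffffffffffffffffffffffffffffffffffffffffffffffffffffffffffffffffffffffffffffffffffffffffffffffffffffffffffffffffffffffffffffffffffffffffffffffffffffffffffffffffffffffffffffffffffffffffffffffffffffffffffffffffffffffffffffffffffffffffffffffffffffffffffffffffffffffffffffffffffffffffffffffffffffffffffffffffffffffffffffffffffffffffffffffffffffffffffffffffffffffffffffffffffffffffffffffffffffffffffffffffffffffffffffffffffffffffffffffffffffffffffffffffffffff,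 0x3bfffdd7f7f7f79ffe77ffffffdf9fcffff1f5f8d77c4cdfea2ffffbfef3b9b87f23f8e3ffff87f38c191eedff67e7ffe3fdf29ff9dcbf0fc935bd1f3d3e1fce98ff7db43ffffbf3c75e11fef0ff07f80f180c447ffff86f834083fb9ffe471ffd1fbf9537439fc48fefffe57bdf846f0e71f8e0de17e3bef1dffffe33f3e470ffffe07ef478681071fffeb900effd0f4639ffe37ff7f2bec6fea3ffefeb93c7cf1f8f0f19fdfdffe37ff79a6f47a3fff0ffe8f201dfff407f8f11107fdfffbfc5cbfff20f1ddbd8ebfff7ffd1e27f8f880ff0f8805ffff11fc07f5eeb7ffc47a47f0f0ccff813c2b7ef7c2a0f810a78473ffd8681cd63b7fd8795efe597fa3f1da, 0x39fe810200707009fc033ccc000307063ce000600204400300000101020000005902c80303bf000008100804000006010040000051000e0000001c0000060b46008e0010026601100010100430b40658001008000404f020000000080000001800001a00000007c000818000000c000b0670f8605001c010f0861d6023816050005d6062505800006000088000801000000040024000800000742000000201c3cc0788071000100b813012804505800130c160b0010004000000000000000000010000000715004020002282c16205888800000000000000004001044002c4408000000000081040a1440800000002084315d800000021b5f800006fc000f004000,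 0x2000000000084000004000000000]
  sep1 := [
  ([], []),
  ([2,2], []),
  ([2,1,0,2,1,0,2,1,0,2,1,0,2,1,0,2,1,0,2,1,0,2,1,0], []),
  ([1,0,2,1,0,2,1,0,2,1,0,2,1,0,2,1,0,2,1,0,2,1,0,2], []),
  ([2,2], []),
  ([0,2,1,0,2,1,0,2,1,0,2,1,0,2,1,0,2,1,0,2,1,0,2,1], []),
  ([2,1,0,2,1,0,2,1,0,2,1,0,2,1,0,2,1,0,2,1,0,2,1,0], []),
  ([1,2,1,2], []),
  ([2,2], []),
  ([2,2], []),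
  ([2,2], []),
  ([1,0,2,1,0,2,1,0,2,1,0,2,1,0,2,1,0,2,1,0,2,1,0,2], []),
  ([0,2,1,0,2,1,0,2,1,0,2,1,0,2,1,0,2,1,0,2,1,0,2,1], []),
  ([2,1,2,1], []),
  ([2,2], []),
  ([1,0,2,1,0,2,1,0,2,1,0,2,1,0,2,1,0,2,1,0,2,1,0,2], [])]
  sep0 := [
  ([2,1,0,2,1,0,2,1,0,2,1,0,2,1,0,2,1,0,2,1,0,2,1,0], []),
  ([2,2], []),
  ([], []),
  ([0,2,1,0,2,1,0,2,1,0,2,1,0,2,1,0,2,1,0,2,1,0,2,1], []),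
  ([2,1,2,1], []),
  ([2,1,0,2,1,0,2,1,0,2,1,0,2,1,0,2,1,0,2,1,0,2,1,0], []),
  ([0,2,1,0,2,1,0,2,1,0,2,1,0,2,1,0,2,1,0,2,1,0,2,1], []),
  ([2,2], []),
  ([2,1,2,1], []),
  ([2,2], []),
  ([2,2], []),
  ([2,1,0,2,1,0,2,1,0,2,1,0,2,1,0,2,1,0,2,1,0,2,1,0], []),
  ([0,2,1,0,2,1,0,2,1,0,2,1,0,2,1,0,2,1,0,2,1,0,2,1], []),
  ([2,2], []),
  ([2,2], []),
  ([0,2,1,0,2,1,0,2,1,0,2,1,0,2,1,0,2,1,0,2,1,0,2,1], [])]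
  gw := [
  [1,0,2,0,0,0,2,1,0,1,0,1,2,0,0,1,0,2,0,0,0,1,2,0,0],
  [1,0,2,1,0,1,1,1,2,0,2,0,0,0,2,0,0,0,2,0,2,0,0,1,0,2,0],
  [2,1,1,0,2,1,0,2,0,2,1,0,2,0,2,1,0,2,0,2,1,0,2,0,0,1,0,1],
  [0,2,0,0,1,2,0,2,0,1,2,0,2,0,1,0,2,1,1,0,1,2,0,2,0,1,2,0,2,1,1],
  [0,0,2,0,1,0,2,0,2,1,1,1,0,2,0,2,0,0,0,2,1,0,2,0,0,0,1,2,0,2,1],
  [1,0,2,0,1,2,0,0,1,0,2,1,0,2,0,2,0,0,1,0,2,0,2,0,1,1,1],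
  [0,2,0,1,0,2,0,0,2,0,2,0,2,1,1,1,0,1,1,2,0,0,2,0,2,0,0,1,0,2,0]]
  v := [
  [0,5,6,3,2,3,2,1,5,3,2,3,4,6,3,2,3,5,0,1,2,3,2,3,5,4,2,0,6,0,2,0,1,1],
  [0,3,5,3,2,3,2,4,5,3,6,5],
  [4,6,3,2,1,3,5,3,2,1,3,2,3,5,6,2,3,1,2,3,5,4,0],
  [1,3,2,1,3,5,3,2,1,4,3,2,3,6,3,4,3,1,2,3,5,4,1,2,3,5,4,1,0,2,1,3,0],
  [0,1,2,4,5,3,2,1,6,3,2,5,3,4,6,3,2,3,6,3,1,2,3,2,3,6,1,2,3,6,4,2,0,3,4],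
  [2,4,6,3,2,3,2,1,6,5,3,2,3,6,4,3,2,3,5,1,2,3,2,3,0,6,4,6,2,6,1,1,0],
  [2,1,4,3,2,1,6,3,5,6,3,2,3,4,1,2,3,6,3,1,2,3,4,2,3,1,0,6,0,5,2,1,3,2,1]]

def base : List ℕ := [0, 1, 14, 38]

theorem lab_ok : labOK HeTable.data lab = true := by decide +kernel
theorem base_eq : HeTableChain.levels.map (·.1) = base := by decide +kernel
theorem elem_ok : cert.elemOK HeTable.data lab base = true := by decide +kernel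
theorem norm_ok : cert.normOK HeTable.data lab base = true := by decide +kernel
theorem none_ok : cert.noneOK HeTable.data lab base = true := by decide +kernel
theorem mask_ok : maskOK HeTable.data HeTableChain.levels cert.ms = true := by decide +kernel
theorem test_ok : cert.testOK HeTable.data = true := by decide +kernel
theorem gen_ok : cert.genOK HeTable.data = true := by decide +kernel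
theorem map_ok : cert.mapOK HeTable.data = true := by decide +kernel
set_option maxHeartbeats 0 in
theorem e_ok : cert.eOK HeTable.data lab base = true := by decide +kernel

theorem out_eq : Nat.card (Cfsg.Out Cfsg.Spor.He) = 2 := by
  haveI := HeOrder.card_le.1
  haveI : IsSimpleGroup Cfsg.Spor.He := HeOrder.isHe.1
  exact out_two_of_cert HeTable.fit HeTableChain.ok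
    (HeTableChain.prod_eq.trans HeOrder.isHe.2.symm) lab lab_ok cert mask_ok (by decide +kernel)
    (by rw [HeOrder.isHe.2]; decide +kernel)
    (fun k hk h0 => (show ∀ k < 17, k ≠ 0 → ∃ c < 8,
      2 ^ c * k % 17 = 1 ∨ 2 ^ c * k % 17 = 3 by decide +kernel) k hk h0 |>.imp fun _ h => h.2)
    (base_eq.symm ▸ elem_ok) (base_eq.symm ▸ norm_ok) (base_eq.symm ▸ none_ok)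
    (base_eq.symm ▸ e_ok) test_ok gen_ok map_ok

end H94.Out.He
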