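import Mathlib
import Cfsg.Agent.H94.Out.Two

/-!
Splitting a search over the first orbit into ranges.
-/

set_option autoImplicit false

namespace H94.Out

open H93 H93.Coset

theorem allRange_of {lo len : ℕ} {f : ℕ → Bool} (h : ∀ c, lo ≤ c → c < lo + len → f c = true) :
    allRange lo len f = true := by
  induction len with
  | zero => rfl
  | succ m ih =>
    have h1 := ih fun c a b => h c a (by omega)
    have h2 := h (lo + m) (Nat.le_add_right _ _) (by omega)
    show (allRange lo m f && force (lo + m) f) = true
    rw [force_eq, h1, h2]; rfl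

/-- the part of the search of the e-list where the first image lies in a range -/
noncomputable def Cert.ePart (C : Cert) (D : Data) (L : Lab) (base : List ℕ) (o : Orb)
    (os : List Orb) (lo len : ℕ) : Bool :=
  allRange lo len fun c => !(cross D L [] o.ck c) ||
    within D L (expand (C.wy, C.m)) c o.wk c (fun O' => srch D L (expand (C.wy, C.m))
      (fun O => isCand D (orbsPts D C.wy (o :: os)) C.eList O ||
        C.witE.any (witOK D L base C.ms (orbsPts D C.wy (o :: os)) O)) os ([] ++ O'))

/-- the other conditions -/
noncomputable def Cert.eRest (C : Cert) (D : Data) (L : Lab) (base : List ℕ) : Bool :=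
  C.wy.all (fun g => Nat.blt g D.ng) && (expand (C.wy, C.m)).all (fun g => Nat.blt g D.ng) &&
    C.eList.all (fun v => v.all fun g => Nat.blt g D.ng) &&
    keyOK D L C.wy C.oy [] && fixOK D L base (orbsPts D C.wy C.oy)

theorem Cert.eOK_of_parts (C : Cert) (D : Data) (L : Lab) (base : List ℕ) {o : Orb}
    {os : List Orb} (ho : C.oy = o :: os) (hrest : C.eRest D L base = true) {s k : ℕ} (hs : 0 < s)
    (hn : D.n ≤ k * s) (hparts : ∀ i < k, C.ePart D L base o os (i * s) s = true) :
    C.eOK D L base = true := by
  simp only [Cert.eOK, solElimOK, Bool.and_eq_true]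
  simp only [Cert.eRest, Bool.and_eq_true] at hrest
  refine ⟨hrest, ?_⟩
  rw [ho]
  refine allRange_of fun c _ hc => ?_
  have hd : c / s < k := Nat.div_lt_of_lt_mul (by rw [Nat.mul_comm]; omega)
  have h2 := Nat.div_add_mod c s
  have h3 := Nat.mod_lt c hs
  exact allRange_spec (hparts _ hd) c (by rw [Nat.mul_comm]; omega) (by rw [Nat.mul_comm]; omega)

end H94.Out
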