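import Cfsg.Agent.H94.Out.SuzCert

/-! Kernel checks for the certificate. -/

set_option autoImplicit false
set_option maxRecDepth 100000
set_option linter.all false

namespace H94.Out.Suz

open H93 H93.Coset

set_option maxHeartbeats 0 in
theorem lab_ok : labOK SuzLG.data lab = true := by decide +kernel
set_option maxHeartbeats 0 in
theorem elem_ok : cert.elemOK SuzLG.data lab base = true := by decide +kernel
set_option maxHeartbeats 0 in
theorem norm_ok : cert.normOK SuzLG.data lab base = true := by decide +kernel
set_option maxHeartbeats 0 in
theorem none_ok : cert.noneOK SuzLG.data lab base = true := by decide +kernel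

end H94.Out.Suz
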