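import Cfsg.Agent.H94.Out.SuzE
import Cfsg.Agent.H94.Out.SuzA
import Cfsg.Agent.H94.Out.SuzB

/-! The outer automorphism group of the presented Suzuki group has order two. -/

set_option autoImplicit false
set_option maxRecDepth 100000

namespace H94.Out.Suz

open H93 H93.Coset

theorem out_eq : Nat.card (Cfsg.Out Cfsg.Spor.Suz) = 2 := by
  haveI := SuzOrder.card_le.1
  haveI : IsSimpleGroup Cfsg.Spor.Suz := SuzOrder.isSuz.1
  exact out_two_of_cert SuzLG.fit SuzLGChain.ok
    (SuzLGChain.prod_eq.trans SuzOrder.isSuz.2.symm) lab lab_ok cert mask_ok (by decide +kernel)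
    (by rw [SuzOrder.isSuz.2]; decide +kernel)
    (fun k hk h0 => (show ∀ k < 13, k ≠ 0 → ∃ c < 6,
      4 ^ c * k % 13 = 1 ∨ 4 ^ c * k % 13 = 2 by decide +kernel) k hk h0 |>.imp fun _ h => h.2)
    (base_eq.symm ▸ elem_ok) (base_eq.symm ▸ norm_ok) (base_eq.symm ▸ none_ok)
    (base_eq.symm ▸ e_ok) test_ok gen_ok map_ok

end H94.Out.Suz
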