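import Cfsg.Agent.H94.Out.SuzEDef

/-! Kernel checks for the certificate. -/

set_option autoImplicit false
set_option maxRecDepth 100000
set_option linter.all false
set_option Elab.async false

namespace H94.Out.Suz

open H93 H93.Coset

set_option maxHeartbeats 0 in
theorem e_part_0 : eP 0 = true := by decide +kernel

set_option maxHeartbeats 0 in
theorem e_part_1 : eP 1 = true := by decide +kernel

set_option maxHeartbeats 0 in
theorem e_part_2 : eP 2 = true := by decide +kernel

set_option maxHeartbeats 0 in
theorem e_part_3 : eP 3 = true := by decide +kernel

end H94.Out.Suz
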