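import Cfsg.Agent.H94.Out.SuzEDef
import Cfsg.Agent.H94.Out.SuzE2

/-! Kernel checks for the certificate. -/

set_option autoImplicit false
set_option maxRecDepth 100000
set_option linter.all false
set_option Elab.async false

namespace H94.Out.Suz

open H93 H93.Coset

set_option maxHeartbeats 0 in
theorem e_part_16 : eP 16 = true := by decide +kernel

set_option maxHeartbeats 0 in
theorem e_part_17 : eP 17 = true := by decide +kernel

set_option maxHeartbeats 0 in
theorem e_part_18 : eP 18 = true := by decide +kernel

set_option maxHeartbeats 0 in
theorem e_part_19 : eP 19 = true := by decide +kernel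

end H94.Out.Suz
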