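import Cfsg.Agent.H94.Out.SuzEDef
import Cfsg.Agent.H94.Out.SuzE3

/-! Kernel checks for the certificate. -/

set_option autoImplicit false
set_option maxRecDepth 100000
set_option linter.all false
set_option Elab.async false

namespace H94.Out.Suz

open H93 H93.Coset

set_option maxHeartbeats 0 in
theorem e_part_20 : eP 20 = true := by decide +kernel

set_option maxHeartbeats 0 in
theorem e_part_21 : eP 21 = true := by decide +kernel

set_option maxHeartbeats 0 in
theorem e_part_22 : eP 22 = true := by decide +kernel

set_option maxHeartbeats 0 in
theorem e_part_23 : eP 23 = true := by decide +kernel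

end H94.Out.Suz
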