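import Cfsg.Agent.H94.Out.SuzE0
import Cfsg.Agent.H94.Out.SuzE1
import Cfsg.Agent.H94.Out.SuzE2
import Cfsg.Agent.H94.Out.SuzE3
import Cfsg.Agent.H94.Out.SuzE4
import Cfsg.Agent.H94.Out.SuzE5
import Cfsg.Agent.H94.Out.SuzE6
import Cfsg.Agent.H94.Out.SuzE7
import Cfsg.Agent.H94.Out.SuzE8

/-! Kernel checks for the certificate. -/

set_option autoImplicit false
set_option maxRecDepth 100000
set_option linter.all false
set_option Elab.async false

namespace H94.Out.Suz

open H93 H93.Coset

set_option maxHeartbeats 0 in
theorem e_rest : cert.eRest SuzLG.data lab base = true := by decide +kernel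

theorem oy_eq : cert.oy = (cert.oy.getD 0 ⟨0, [], []⟩) :: cert.oy.drop 1 := rfl

theorem e_ok : cert.eOK SuzLG.data lab base = true := by
  refine Cert.eOK_of_parts cert _ _ _ oy_eq e_rest (s := 50) (k := 36) (by decide) (Nat.le.intro (k := 18) rfl) ?_
  intro i hi
  interval_cases i
  · exact e_part_0
  · exact e_part_1
  · exact e_part_2
  · exact e_part_3
  · exact e_part_4
  · exact e_part_5
  · exact e_part_6
  · exact e_part_7
  · exact e_part_8
  · exact e_part_9
  · exact e_part_10
  · exact e_part_11
  · exact e_part_12
  · exact e_part_13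
  · exact e_part_14
  · exact e_part_15
  · exact e_part_16
  · exact e_part_17
  · exact e_part_18
  · exact e_part_19
  · exact e_part_20
  · exact e_part_21
  · exact e_part_22
  · exact e_part_23
  · exact e_part_24
  · exact e_part_25
  · exact e_part_26
  · exact e_part_27
  · exact e_part_28
  · exact e_part_29
  · exact e_part_30
  · exact e_part_31
  · exact e_part_32
  · exact e_part_33
  · exact e_part_34
  · exact e_part_35

end H94.Out.Suz
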