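import Cfsg.Agent.H94.Out.SuzCert
import Cfsg.Agent.H94.Out.Split

/-! Kernel checks for the certificate. -/

set_option autoImplicit false
set_option maxRecDepth 100000
set_option linter.all false
set_option Elab.async false

namespace H94.Out.Suz

open H93 H93.Coset

noncomputable def eP (i : ℕ) : Bool := cert.ePart SuzLG.data lab base (cert.oy.getD 0 ⟨0, [], []⟩) (cert.oy.drop 1) (i * 50) 50

end H94.Out.Suz
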